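import Groth.Agent.Picfga.LineDescent
import Mathlib.Algebra.Category.Ring.Constructions
import Mathlib.RingTheory.PolynomialAlgebra
import Mathlib.RingTheory.Polynomial.Nilpotent

/-!
# Charts of `Y ×_k Spec A ⟶ Y`, units of `Y × 𝔸¹`

* `exists_chart`: base change of a cartesian square `W = Y ×_k Spec A` along `Spec R ⟶ Y`.
* `exists_unit_line`: for `Y` reduced, the units of `q⁻¹ U ⊆ Y × 𝔸¹` come from `U`.
-/

set_option autoImplicit false
universe u
open CategoryTheory CategoryTheory.Limits AlgebraicGeometry TopologicalSpace Opposite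

namespace Groth.Agent.Sga7.H76.Chart

open Groth.Agent.Fdesc.LocGen

variable {k : Type u} [CommRing k] {Y W : Scheme.{u}}

/-- Base change of the cartesian square `W = Y ×_k Spec A` along `u : Spec R ⟶ Y`. -/
theorem exists_chart {A R AR : Type u} [CommRing A] [Algebra k A] [CommRing R] [Algebra k R]
    [CommRing AR] [Algebra R AR] [Algebra A AR] [Algebra k AR] [IsScalarTower k R AR]
    [IsScalarTower k A AR] [Algebra.IsPushout k A R AR] {f : Y ⟶ Spec (CommRingCat.of k)}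
    {q : W ⟶ Y} {c : W ⟶ Spec (CommRingCat.of A)}
    (h : IsPullback q c f (Spec.map (CommRingCat.ofHom (algebraMap k A))))
    (u : Spec (CommRingCat.of R) ⟶ Y)
    (hu : u ≫ f = Spec.map (CommRingCat.ofHom (algebraMap k R))) :
    ∃ j : Spec (CommRingCat.of AR) ⟶ W,
      IsPullback j (Spec.map (CommRingCat.ofHom (algebraMap R AR))) q u ∧
        j ≫ c = Spec.map (CommRingCat.ofHom (algebraMap A AR)) := by
  have hsq : IsPullback (Spec.map (CommRingCat.ofHom (algebraMap A AR)))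
      (Spec.map (CommRingCat.ofHom (algebraMap R AR)))
      (Spec.map (CommRingCat.ofHom (algebraMap k A)))
      (Spec.map (CommRingCat.ofHom (algebraMap k R))) :=
    isPullback_SpecMap_of_isPushout _ _ _ _ (CommRingCat.isPushout_of_isPushout k A R AR)
  refine ⟨h.lift (Spec.map (CommRingCat.ofHom (algebraMap R AR)) ≫ u)
    (Spec.map (CommRingCat.ofHom (algebraMap A AR))) ?_, ?_, h.lift_snd _ _ _⟩
  · rw [Category.assoc, hu]
    exact hsq.w.symm
  · refine IsPullback.of_right (h₁₂ := c) (h₂₂ := f)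
      (v₁₃ := Spec.map (CommRingCat.ofHom (algebraMap k A))) ?_ (h.lift_fst _ _ _) h.flip
    rw [h.lift_snd, hu]
    exact hsq

/-- The sections of `q` given by the points of `A`. -/
theorem exists_section {A : Type u} [CommRing A] [Algebra k A] {f : Y ⟶ Spec (CommRingCat.of k)}
    {q : W ⟶ Y} {c : W ⟶ Spec (CommRingCat.of A)}
    (h : IsPullback q c f (Spec.map (CommRingCat.ofHom (algebraMap k A)))) (ε : A →ₐ[k] k) :
    ∃ s : Y ⟶ W, s ≫ q = 𝟙 Y ∧ s ≫ c = f ≫ Spec.map (CommRingCat.ofHom ε.toRingHom) := by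
  refine ⟨h.lift (𝟙 Y) (f ≫ Spec.map (CommRingCat.ofHom ε.toRingHom)) ?_, h.lift_fst _ _ _,
    h.lift_snd _ _ _⟩
  rw [Category.id_comp, Category.assoc, ← Spec.map_comp, ← CommRingCat.ofHom_comp]
  have : ε.toRingHom.comp (algebraMap k A) = RingHom.id k := ε.comp_algebraMap
  rw [this]
  change f = f ≫ Spec.map (𝟙 _)
  rw [Spec.map_id, Category.comp_id]

theorem app_injective {q : W ⟶ Y} {s : Y ⟶ W} (hs : s ≫ q = 𝟙 Y) (V : Y.Opens) :
    Function.Injective (q.app V) := by
  have h1 : q.appLE V (q ⁻¹ᵁ V) le_rfl ≫ s.appLE (q ⁻¹ᵁ V) V (by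
      rw [← Scheme.Hom.comp_preimage, hs]; exact le_rfl) = 𝟙 _ := by
    rw [Scheme.Hom.appLE_comp_appLE]
    simp only [hs]
    rw [Scheme.Hom.appLE]
    simp only [Scheme.Hom.id_app]
    exact (Category.id_comp _).trans (Y.presheaf.map_id _)
  intro a b hab
  have h2 : ∀ x : Γ(Y, V), s.appLE (q ⁻¹ᵁ V) V (by
      rw [← Scheme.Hom.comp_preimage, hs]; exact le_rfl) (q.app V x) = x := by
    intro x
    have := ConcreteCategory.congr_hom h1 x
    rw [Scheme.Hom.appLE_eq_app] at this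
    exact this
  rw [← h2 a, ← h2 b, hab]

/-- A function on `q⁻¹ U` which comes locally from functions on `U` comes from `U`. -/
theorem exists_app_eq {q : W ⟶ Y} (hinj : ∀ V : Y.Opens, Function.Injective (q.app V))
    {U : Y.Opens} (b : Γ(W, q ⁻¹ᵁ U))
    (h : ∀ x ∈ U, ∃ (V : Y.Opens) (hV : V ≤ U), x ∈ V ∧ ∃ a : Γ(Y, V),
      q.app V a = ores (q.preimage_mono hV) b) :
    ∃ a : Γ(Y, U), q.app U a = b := by
  choose V hV hxV a ha using h
  have hcov : U ≤ ⨆ x : U, V x.1 x.2 := fun x hx => Opens.mem_iSup.mpr ⟨⟨x, hx⟩, hxV x hx⟩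
  obtain ⟨t, ht⟩ := ores_glue (fun x : U => V x.1 x.2) (fun x => hV _ _) hcov
    (fun x => a x.1 x.2) (by
      intro x x'
      apply hinj
      rw [Groth.Agent.Picfga.LineDescent.app_ores, Groth.Agent.Picfga.LineDescent.app_ores, ha, ha,
        ores_ores, ores_ores])
  refine ⟨t, ?_⟩
  refine ores_ext (fun x : U => q ⁻¹ᵁ V x.1 x.2) (fun x => q.preimage_mono (hV _ _)) ?_ ?_
  · intro w hw
    exact Opens.mem_iSup.mpr ⟨⟨q w, hw⟩, hxV _ hw⟩
  · intro x
    rw [← Groth.Agent.Picfga.LineDescent.app_ores q (hV x.1 x.2), ht, ha]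

/-- A unit on `q⁻¹ U` coming from a function on `U` comes from a unit. -/
theorem isUnit_of_app {q : W ⟶ Y} {s : Y ⟶ W} (hs : s ≫ q = 𝟙 Y) {U : Y.Opens} {a : Γ(Y, U)}
    (ha : IsUnit (q.app U a)) : IsUnit a := by
  have h1 : q.appLE U (q ⁻¹ᵁ U) le_rfl ≫ s.appLE (q ⁻¹ᵁ U) U (by
      rw [← Scheme.Hom.comp_preimage, hs]; exact le_rfl) = 𝟙 _ := by
    rw [Scheme.Hom.appLE_comp_appLE]
    simp only [hs]
    rw [Scheme.Hom.appLE]
    simp only [Scheme.Hom.id_app]
    exact (Category.id_comp _).trans (Y.presheaf.map_id _)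
  have h2 := ConcreteCategory.congr_hom h1 a
  rw [Scheme.Hom.appLE_eq_app] at h2
  change s.appLE (q ⁻¹ᵁ U) U _ (q.app U a) = a at h2
  rw [← h2]
  exact ha.map (s.appLE (q ⁻¹ᵁ U) U _).hom

/-- The range of the base change of an open immersion. -/
theorem opensRange_eq {V W' : Scheme.{u}} {q : W ⟶ Y} {u : V ⟶ Y} [IsOpenImmersion u]
    {j : W' ⟶ W} {v : W' ⟶ V} (h : IsPullback j v q u) [IsOpenImmersion j] :
    j.opensRange = q ⁻¹ᵁ u.opensRange := by
  rw [← Scheme.Hom.opensRange_pullbackFst]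
  have h1 : h.isoPullback.hom ≫ pullback.fst q u = j := h.isoPullback_hom_fst
  have h2 : h.isoPullback.inv ≫ j = pullback.fst q u := h.isoPullback_inv_fst
  ext x
  constructor
  · rintro ⟨y, rfl⟩
    exact ⟨h.isoPullback.hom y, congr($h1 y)⟩
  · rintro ⟨y, rfl⟩
    exact ⟨h.isoPullback.inv y, congr($h2 y)⟩

theorem isOpenImmersion_of_isPullback {V W' : Scheme.{u}} {q : W ⟶ Y} {u : V ⟶ Y}
    [IsOpenImmersion u] {j : W' ⟶ W} {v : W' ⟶ V} (h : IsPullback j v q u) : IsOpenImmersion j :=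
  MorphismProperty.of_isPullback (P := @IsOpenImmersion) h.flip inferInstance

theorem appLE_congr {X Z : Scheme.{u}} {f g : X ⟶ Z} (h : f = g) {U : Z.Opens} {V : X.Opens}
    (e : V ≤ f ⁻¹ᵁ U) (e' : V ≤ g ⁻¹ᵁ U) : f.appLE U V e = g.appLE U V e' := by
  subst h
  rfl

/-- Functions on the chart over an affine open, in terms of the ring `AR`. -/
theorem exists_app_of_chart {R AR : Type u} [CommRing R] [CommRing AR] [Algebra R AR] {q : W ⟶ Y}
    {u : Spec (CommRingCat.of R) ⟶ Y} [IsOpenImmersion u] {j : Spec (CommRingCat.of AR) ⟶ W}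
    (h : IsPullback j (Spec.map (CommRingCat.ofHom (algebraMap R AR))) q u) {U : Y.Opens}
    (hU : U = u.opensRange) (b : Γ(W, q ⁻¹ᵁ U)) (hj : ⊤ ≤ j ⁻¹ᵁ (q ⁻¹ᵁ U)) :
    ∃ (P : AR), j.appLE (q ⁻¹ᵁ U) ⊤ hj b = (Scheme.ΓSpecIso (CommRingCat.of AR)).inv P ∧
      (IsUnit b → IsUnit P) ∧
      ∀ r : R, algebraMap R AR r = P → ∃ a : Γ(Y, U), q.app U a = b := by
  have hjo := isOpenImmersion_of_isPullback h
  have hjr := opensRange_eq h
  subst hU
  have huT : (⊤ : (Spec (CommRingCat.of R)).Opens) ≤ u ⁻¹ᵁ u.opensRange := by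
    intro x _
    exact ⟨x, rfl⟩
  let α := j.appLE (q ⁻¹ᵁ u.opensRange) ⊤ hj
  let β := u.appLE u.opensRange ⊤ huT
  have hα : Function.Injective α := by
    have : IsIso α := by
      have h1 : IsIso (j.app (q ⁻¹ᵁ u.opensRange)) := j.isIso_app _ hjr.ge
      change IsIso (j.app _ ≫ _)
      have h2 : (⊤ : (Spec (CommRingCat.of AR)).Opens) = j ⁻¹ᵁ (q ⁻¹ᵁ u.opensRange) :=
        top_le_iff.mp hj |>.symm
      have h3 : IsIso (homOfLE hj) := ⟨homOfLE h2.ge, Subsingleton.elim _ _, Subsingleton.elim _ _⟩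
      infer_instance
    exact (ConcreteCategory.bijective_of_isIso α).1
  have hβ : Function.Surjective β := by
    have : IsIso β := by
      have h1 : IsIso (u.app u.opensRange) := u.isIso_app _ le_rfl
      change IsIso (u.app _ ≫ _)
      have h2 : (⊤ : (Spec (CommRingCat.of R)).Opens) = u ⁻¹ᵁ u.opensRange :=
        top_le_iff.mp huT |>.symm
      have h3 : IsIso (homOfLE huT) := ⟨homOfLE h2.ge, Subsingleton.elim _ _, Subsingleton.elim _ _⟩
      infer_instance
    exact (ConcreteCategory.bijective_of_isIso β).2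
  refine ⟨(Scheme.ΓSpecIso (CommRingCat.of AR)).hom (α b), ?_, ?_, ?_⟩
  · exact (congr($((Scheme.ΓSpecIso (CommRingCat.of AR)).hom_inv_id) (α b))).symm
  · intro hb
    exact (hb.map α.hom).map (Scheme.ΓSpecIso (CommRingCat.of AR)).hom.hom
  · intro r hr
    obtain ⟨a, ha⟩ := hβ ((Scheme.ΓSpecIso (CommRingCat.of R)).inv r)
    refine ⟨a, hα ?_⟩
    have h1 : q.appLE u.opensRange (q ⁻¹ᵁ u.opensRange) le_rfl ≫ α =
        β ≫ (Spec.map (CommRingCat.ofHom (algebraMap R AR))).appLE ⊤ ⊤ le_rfl := by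
      have e1 := Scheme.Hom.appLE_comp_appLE j q u.opensRange (q ⁻¹ᵁ u.opensRange) ⊤ le_rfl hj
      have e2 := Scheme.Hom.appLE_comp_appLE (Spec.map (CommRingCat.ofHom (algebraMap R AR))) u
        u.opensRange ⊤ ⊤ huT le_rfl
      exact e1.trans ((appLE_congr h.w _ _).trans e2.symm)
    have h2 := ConcreteCategory.congr_hom h1 a
    rw [Scheme.Hom.appLE_eq_app] at h2
    change α (q.app u.opensRange a) = _ at h2
    rw [h2]
    change (Spec.map (CommRingCat.ofHom (algebraMap R AR))).appLE ⊤ ⊤ le_rfl (β a) = α b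
    have h4 : (Spec.map (CommRingCat.ofHom (algebraMap R AR))).appLE ⊤ ⊤ le_rfl =
        (Spec.map (CommRingCat.ofHom (algebraMap R AR))).appTop := Scheme.Hom.appLE_eq_app _
    rw [ha, h4]
    have h3 := ConcreteCategory.congr_hom
      (Scheme.ΓSpecIso_inv_naturality (CommRingCat.ofHom (algebraMap R AR))) r
    refine h3.symm.trans ?_
    change (Scheme.ΓSpecIso (CommRingCat.of AR)).inv (algebraMap R AR r) = α b
    rw [hr]
    exact congr($((Scheme.ΓSpecIso (CommRingCat.of AR)).hom_inv_id) (α b))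

attribute [local instance] Polynomial.algebra

open Polynomial in
/-- **Units of `Y × 𝔸¹`** for `Y` reduced. -/
theorem exists_unit_line [IsReduced Y] {f : Y ⟶ Spec (CommRingCat.of k)} {q : W ⟶ Y}
    {c : W ⟶ Spec (CommRingCat.of (Polynomial k))}
    (h : IsPullback q c f (Spec.map (CommRingCat.ofHom (algebraMap k (Polynomial k)))))
    (U : Y.Opens) (b : Γ(W, q ⁻¹ᵁ U)) (hb : IsUnit b) :
    ∃ a : Γ(Y, U), IsUnit a ∧ q.app U a = b := by
  obtain ⟨s, hs, -⟩ := exists_section h (Polynomial.aeval (0 : k))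
  obtain ⟨a, ha⟩ := exists_app_eq (app_injective hs) b (fun x hx => by
    obtain ⟨V, hV, hxV, hVU⟩ := exists_isAffineOpen_mem_and_subset (x := x) (U := U) hx
    refine ⟨V, hVU, hxV, ?_⟩
    let R := Γ(Y, V)
    let φ : k →+* R := (Spec.preimage (hV.fromSpec ≫ f)).hom
    let : Algebra k R := φ.toAlgebra
    obtain ⟨j, hj, -⟩ := exists_chart (A := Polynomial k) (R := R) (AR := Polynomial R) h hV.fromSpec
      (by
        change _ = Spec.map (CommRingCat.ofHom φ)
        rw [CommRingCat.ofHom_hom, Spec.map_preimage])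
    have hVr : V = hV.fromSpec.opensRange := hV.opensRange_fromSpec.symm
    obtain ⟨P, -, hP1, hP2⟩ := exists_app_of_chart hj hVr (ores (q.preimage_mono hVU) b) (by
      intro z _
      change q (j z) ∈ V
      rw [hVr, ← Scheme.Hom.comp_apply, hj.w]
      exact ⟨_, rfl⟩)
    have hPu := hP1 (hb.map (ores (q.preimage_mono hVU)))
    rw [Polynomial.isUnit_iff_coeff_isUnit_isNilpotent] at hPu
    exact hP2 (P.coeff 0) (by
      ext n
      rcases Nat.eq_zero_or_pos n with rfl | hn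
      · simp
      · rw [Polynomial.algebraMap_apply, Polynomial.coeff_C, if_neg hn.ne']
        exact (hPu.2 n hn.ne').eq_zero.symm))
  refine ⟨a, isUnit_of_app hs ?_, ha⟩
  rw [ha]
  exact hb

end Groth.Agent.Sga7.H76.Chart
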