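import Groth.Agent.Ega2.LimPic
import Groth.Agent.Grpsch.PicGrp
import Groth.Prelude.Def_ParaF
import Mathlib.RingTheory.Localization.AtPrime.Basic
import Mathlib.RingTheory.Localization.Away.Basic
import Mathlib.RingTheory.Localization.Integer

/-!
# Spreading out triviality of an invertible module from `Spec R_P` to `Spec R_b`, `b ∉ P`
-/

set_option autoImplicit false
universe u
open CategoryTheory CategoryTheory.Limits AlgebraicGeometry TopologicalSpace Opposite

namespace Groth.Agent.Sga7.H76.LocTriv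

open Groth.Agent.Ega2.LimPic

theorem pullCl_structure {X Y : Scheme.{u}} (f : X ⟶ Y) :
    PicF.pullCl f (PicF.cl (Coh.structureModule Y)) = PicF.cl (Coh.structureModule X) := by
  have h1 := map_one (Groth.Agent.Grpsch.PicGrp.pull f)
  rw [Groth.Agent.Grpsch.PicGrp.one_def, Groth.Agent.Grpsch.PicGrp.one_def,
    Groth.Agent.Grpsch.PicGrp.pull_mk, Groth.Agent.Grpsch.PicGrp.mk_eq_iff] at h1
  exact Quot.sound h1

theorem cl_eq_iff {X : Scheme.{u}} (L : X.Modules) :
    PicF.cl L = PicF.cl (Coh.structureModule X) ↔ Nonempty (L ≅ Coh.structureModule X) :=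
  Groth.Agent.Picfga.LineDescent.cl_eq_iff

theorem isInvertible_structure (X : Scheme.{u}) : PicF.IsInvertible (Coh.structureModule X) := by
  rw [Groth.Agent.Fdesc.LocGen.isInvertible_iff]
  exact fun x => ⟨⊤, _, trivial, Groth.Agent.Fdesc.LocGen.isGen_one ⊤⟩

section

variable {R : Type u} [CommRing R] [IsDomain R] (P : Ideal R) [P.IsPrime]

/-- The map `R_b → R_P`. -/
noncomputable def awayMap (b : R) (hb : b ∉ P) : Localization.Away b →ₐ[R] Localization.AtPrime P :=
  IsLocalization.liftAlgHom (M := Submonoid.powers b) (f := Algebra.ofId R (Localization.AtPrime P))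
    (by
      rintro ⟨_, n, rfl⟩
      exact IsLocalization.map_units (Localization.AtPrime P)
        (⟨b ^ n, fun h => hb (Ideal.IsPrime.mem_of_pow_mem ‹_› n h)⟩ : P.primeCompl))

theorem awayMap_injective (b : R) (hb : b ∉ P) : Function.Injective (awayMap P b hb) := by
  rw [injective_iff_map_eq_zero]
  intro x hx
  obtain ⟨⟨a, s⟩, h⟩ := IsLocalization.surj (Submonoid.powers b) x
  have h1 : algebraMap R (Localization.AtPrime P) a = 0 := by
    have := congrArg (awayMap P b hb) h
    rw [map_mul, hx, zero_mul, AlgHom.commutes] at this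
    exact this.symm
  have h2 : a = 0 := by
    have hinj : Function.Injective (algebraMap R (Localization.AtPrime P)) :=
      IsLocalization.injective _ P.primeCompl_le_nonZeroDivisors
    exact (injective_iff_map_eq_zero _).mp hinj a h1
  simp only [h2, map_zero] at h
  exact (IsLocalization.map_units (Localization.Away b) s).mul_left_eq_zero.mp h

/-- A finitely generated subalgebra of `R_P` maps to some `R_b`. -/
theorem exists_algHom (C : Subalgebra R (Localization.AtPrime P)) (hC : C.FG) :
    ∃ (b : R) (_ : b ∉ P), Nonempty (C →ₐ[R] Localization.Away b) := by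
  obtain ⟨s, rfl⟩ := hC
  obtain ⟨⟨b, hb⟩, h⟩ := IsLocalization.exist_integer_multiples_of_finset P.primeCompl s
  refine ⟨b, hb, ?_⟩
  have hle : Algebra.adjoin R (s : Set (Localization.AtPrime P)) ≤ (awayMap P b hb).range := by
    rw [Algebra.adjoin_le_iff]
    intro x hx
    obtain ⟨a, ha⟩ := h x hx
    refine ⟨IsLocalization.mk' _ a (⟨b, Submonoid.mem_powers b⟩ : Submonoid.powers b), ?_⟩
    have hu : IsUnit (algebraMap R (Localization.AtPrime P) b) :=
      IsLocalization.map_units (Localization.AtPrime P) (⟨b, hb⟩ : P.primeCompl)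
    refine hu.mul_left_cancel ?_
    have h1 : algebraMap R (Localization.AtPrime P) b = awayMap P b hb (algebraMap R _ b) :=
      ((awayMap P b hb).commutes b).symm
    change _ = algebraMap R (Localization.AtPrime P) b * x
    rw [← Algebra.smul_def b x]
    refine Eq.trans ?_ ha
    change _ * (awayMap P b hb) _ = _
    rw [h1, ← map_mul, mul_comm, IsLocalization.mk'_spec, AlgHom.commutes]
  exact ⟨(AlgEquiv.ofInjective (awayMap P b hb) (awayMap_injective P b hb)).symm.toAlgHom.comp
    (Subalgebra.inclusion hle)⟩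

/-- **Spreading out triviality.** -/
theorem exists_away {X₀ : Scheme.{u}} (f₀ : X₀ ⟶ Spec (CommRingCat.of R)) [QuasiCompact f₀]
    [QuasiSeparated f₀] {L : X₀.Modules} (hL : PicF.IsInvertible L)
    (htriv : ∀ (Z : Scheme.{u}) (a : Z ⟶ X₀) (b : Z ⟶ Spec (CommRingCat.of (Localization.AtPrime P))),
      IsPullback a b f₀ (Spec.map (CommRingCat.ofHom (algebraMap R (Localization.AtPrime P)))) →
      Nonempty ((Scheme.Modules.pullback a).obj L ≅ Coh.structureModule Z)) :
    ∃ b : R, b ∉ P ∧ ∀ (Z : Scheme.{u}) (a : Z ⟶ X₀)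
      (c : Z ⟶ Spec (CommRingCat.of (Localization.Away b))),
      IsPullback a c f₀ (Spec.map (CommRingCat.ofHom (algebraMap R (Localization.Away b)))) →
      Nonempty ((Scheme.Modules.pullback a).obj L ≅ Coh.structureModule Z) := by
  let B := Localization.AtPrime P
  let t : Spec (CommRingCat.of R) ⟶ Spec (CommRingCat.of R) := 𝟙 _
  have hpb : ∀ (C : Type u) [CommRing C] [Algebra R C],
      IsPullback (pullback.fst f₀ (spO t C).hom) (pullback.snd f₀ (spO t C).hom) f₀
        (Spec.map (CommRingCat.ofHom (algebraMap R C))) := by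
    intro C _ _
    have h := IsPullback.of_hasPullback f₀ (spO t C).hom
    have h2 : (spO t C).hom = Spec.map (CommRingCat.ofHom (algebraMap R C)) := Category.comp_id _
    refine h.of_iso (Iso.refl _) (Iso.refl _) (Iso.refl _) (Iso.refl _) ?_ ?_ ?_ ?_
    · simp
    · simp
    · simp
    · simp only [Iso.refl_hom, Category.id_comp, Category.comp_id]
      exact h2
  let cL (C : Type u) [CommRing C] [Algebra R C] : PicF.Cl (PicF.XT f₀ (spO t C)) :=
    PicF.pullCl (pullback.fst f₀ (spO t C).hom) (PicF.cl L)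
  have hfst : ∀ (C C' : Type u) [CommRing C] [Algebra R C] [CommRing C'] [Algebra R C']
      (φ : C →ₐ[R] C'), PicF.XTmap f₀ (spMap t φ) ≫ pullback.fst f₀ (spO t C).hom =
        pullback.fst f₀ (spO t C').hom := by
    intro C C' _ _ _ _ φ
    unfold PicF.XTmap
    rw [pullback.lift_fst, Category.comp_id]
  have hcL : ∀ (C C' : Type u) [CommRing C] [Algebra R C] [CommRing C'] [Algebra R C']
      (φ : C →ₐ[R] C'), PicF.pullCl (PicF.XTmap f₀ (spMap t φ)) (cL C) = cL C' := by
    intro C C' _ _ _ _ φ
    change PicF.pullCl _ (PicF.pullCl _ _) = PicF.pullCl _ _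
    rw [← pullCl_comp, hfst]
  have hinv : ∀ (C : Type u) [CommRing C] [Algebra R C], PicF.IsInvertibleCl (cL C) := by
    intro C _ _
    exact isInvertibleCl_pullCl _ ⟨L, rfl, hL⟩
  obtain ⟨C₁, hC₁, hle, h1⟩ := exists_eq_FG (B := B) t f₀ (C := (⊥ : Subalgebra R B))
    Subalgebra.fg_bot (ξ := cL _) (ξ' := PicF.cl (Coh.structureModule _)) (hinv _)
    ⟨_, rfl, isInvertible_structure _⟩ (by
      rw [pullCl_structure]
      refine (hcL _ _ _).trans ?_
      exact (cl_eq_iff _).mpr (htriv _ _ _ (hpb B)))
  have h2 := h1 C₁ le_rfl hle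
  rw [pullCl_structure] at h2
  have h3 : cL C₁ = PicF.cl (Coh.structureModule _) := (hcL _ _ _).symm.trans h2
  obtain ⟨b, hb, ⟨ψ⟩⟩ := exists_algHom P C₁ hC₁
  refine ⟨b, hb, fun Z a c hsq => ?_⟩
  have h4 : cL (Localization.Away b) = PicF.cl (Coh.structureModule _) := by
    rw [← hcL _ _ ψ, h3, pullCl_structure]
  rw [← cl_eq_iff]
  let e := hsq.isoIsPullback _ _ (hpb (Localization.Away b))
  have he : e.hom ≫ pullback.fst f₀ (spO t (Localization.Away b)).hom = a :=
    hsq.isoIsPullback_hom_fst _ _ (hpb (Localization.Away b))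
  change PicF.pullCl a (PicF.cl L) = _
  rw [← he, pullCl_comp]
  change PicF.pullCl e.hom (cL _) = _
  rw [h4, pullCl_structure]

end

end Groth.Agent.Sga7.H76.LocTriv
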